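import Groth.Prelude.Def_FDesc
import Groth.Agent.DepthTensModLib.Basic
import Groth.Agent.DepthLib.FibPDZero
import Groth.Agent.DepthLib.SuppDim
import Groth.Agent.DvrLenLib.Stalks
import Groth.Agent.CycSpLib.Sheaf
import Groth.Agent.KFlatLib.StalkTensor
import Groth.Agent.AssPointLib.Basic
import Groth.Agent.S5752
import Groth.Agent.S4636
import Groth.Agent.S4637
import Groth.Agent.S9501

/-! # Associated points of `f^*E ⊗ F` for `F` flat over the base -/

set_option autoImplicit false
set_option backward.isDefEq.respectTransparency false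
universe u
open CategoryTheory AlgebraicGeometry IsLocalRing TensorProduct

namespace AssFlatLib

section Alg

variable {A B : Type u} [CommRing A] [CommRing B] [IsLocalRing A] [IsLocalRing B] [IsNoetherianRing A]
  [IsNoetherianRing B] [Algebra A B] [IsLocalHom (algebraMap A B)]
  (N : Type u) [AddCommGroup N] [Module B N] [Module A N] [IsScalarTower A B N] [Module.Finite B N]
  (M : Type u) [AddCommGroup M] [Module A M] [Module.Finite A M]

/-- `m_A N = N` only for `N = 0`. -/
theorem nontrivial_fib [Nontrivial N] : Nontrivial (DepthTensModLib.Fib A (B := B) N) := by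
  refine Submodule.Quotient.nontrivial_iff.2 fun h => top_ne_bot (α := Submodule B N) ?_
  exact Submodule.eq_bot_of_le_smul_of_le_jacobson_bot _ ⊤ Module.Finite.fg_top h.ge
    (le_trans (((local_hom_TFAE (algebraMap A B)).out 0 2).1 (by infer_instance)) (maximalIdeal_le_jacobson _))

theorem faithfullyFlat (B : Type u) [CommRing B] [IsLocalRing B] [IsNoetherianRing B] [Algebra A B]
    [IsLocalHom (algebraMap A B)] (N : Type u) [AddCommGroup N] [Module B N] [Module A N] [IsScalarTower A B N]
    [Module.Finite B N] [Module.Flat A N] [Nontrivial N] : Module.FaithfullyFlat A N := by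
  refine ⟨fun {m} hm h => ?_⟩
  obtain rfl : m = maximalIdeal A := IsLocalRing.eq_maximalIdeal hm
  have h' : ((maximalIdeal A).map (algebraMap A B) • (⊤ : Submodule B N)) = ⊤ := eq_top_iff.2 fun x _ => by
    have hx : x ∈ maximalIdeal A • (⊤ : Submodule A N) := by rw [h]; trivial
    refine Submodule.smul_induction_on hx (fun r hr n _ => ?_) fun a b ha hb => add_mem ha hb
    rw [← algebraMap_smul B r n]
    exact Submodule.smul_mem_smul (Ideal.mem_map_of_mem _ hr) trivial
  have := nontrivial_fib (A := A) (B := B) N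
  exact (Submodule.Quotient.nontrivial_iff.1 this) h'

theorem ass_tensor_iff [Module.Flat A N] :
    IsAssociatedPrime (maximalIdeal B) (N ⊗[A] M) ↔
      IsAssociatedPrime (maximalIdeal A) M ∧ IsAssociatedPrime (maximalIdeal B) (DepthTensModLib.Fib A (B := B) N) := by
  haveI := DepthTensModLib.finite_tensor (A := A) (B := B) N M
  have no : ∀ {R X : Type u} [CommRing R] [AddCommGroup X] [Module R X] [Subsingleton X] (p : Ideal R),
      ¬ IsAssociatedPrime p X := fun {R X} _ _ _ _ p h =>
    (associatedPrimes.eq_empty_of_subsingleton (R := R) (M := X)).subset h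
  rcases subsingleton_or_nontrivial N with hN | hN
  · exact iff_of_false (no _) fun h => no _ h.2
  rcases subsingleton_or_nontrivial M with hM | hM
  · exact iff_of_false (no _) fun h => no _ h.1
  have h := DepthTensModLib.depth_tensor (A := A) (B := B) N M
  have e1 := Groth.Agent.S5752.result A M
  have e2 := Groth.Agent.S5752.result B (DepthTensModLib.Fib A (B := B) N)
  have e3 := Groth.Agent.S5752.result B (N ⊗[A] M)
  rw [h, add_eq_zero] at e3
  exact e3.symm.trans (and_congr e1 e2)

omit [IsLocalHom (algebraMap A B)] [IsNoetherianRing A] [IsNoetherianRing B] [Module.Finite B N] [IsLocalRing B] in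
theorem length_tensor_simple (Q : Type u) [AddCommGroup Q] [Module A Q] [IsSimpleModule A Q] :
    Module.length B (N ⊗[A] Q) = Module.length B (DepthTensModLib.Fib A (B := B) N) := by
  obtain ⟨I, hI, ⟨e⟩⟩ := isSimpleModule_iff_quot_maximal.1 ‹IsSimpleModule A Q›
  obtain rfl : I = maximalIdeal A := IsLocalRing.eq_maximalIdeal hI
  let e' : N ⊗[A] Q ≃ₗ[B] N ⊗[A] (A ⧸ maximalIdeal A) := AlgebraTensorModule.congr (LinearEquiv.refl B N) e
  rw [e'.length_eq]
  let e2 : (B ⊗[A] (A ⧸ maximalIdeal A)) ≃ₗ[B] B ⧸ (maximalIdeal A).map (algebraMap A B) :=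
    (Algebra.TensorProduct.quotIdealMapEquivTensorQuot B (maximalIdeal A)).symm.toLinearEquiv
  exact (((AlgebraTensorModule.cancelBaseChange A B B N (A ⧸ maximalIdeal A)).symm.trans
    (AlgebraTensorModule.congr (LinearEquiv.refl B N) e2)).trans
      (tensorQuotEquivQuotSMul N _)).length_eq

omit [IsLocalHom (algebraMap A B)] [IsNoetherianRing A] [IsNoetherianRing B] [Module.Finite B N] [IsLocalRing B] [Module.Finite A M] in
theorem length_tensor [Module.Flat A N] (hM : IsFiniteLength A M) :
    Module.length B (N ⊗[A] M) = Module.length A M * Module.length B (DepthTensModLib.Fib A (B := B) N) := by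
  induction hM with
  | of_subsingleton => rw [Module.length_eq_zero, Module.length_eq_zero, zero_mul]
  | of_simple_quotient hN' ih =>
    rename_i X _ _ P hsimple
    rw [Module.length_eq_add_of_exact (AlgebraTensorModule.lTensor B N P.subtype) (AlgebraTensorModule.lTensor B N P.mkQ)
        (Module.Flat.lTensor_preserves_injective_linearMap P.subtype (Submodule.injective_subtype P))
        (LinearMap.lTensor_surjective N (Submodule.mkQ_surjective P))
        (Module.Flat.lTensor_exact N (LinearMap.exact_subtype_mkQ P)),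
      Module.length_eq_add_of_exact P.subtype P.mkQ (Submodule.injective_subtype P) (Submodule.mkQ_surjective P)
        (LinearMap.exact_subtype_mkQ P), ih, length_tensor_simple N (X ⧸ P), Module.length_eq_one A (X ⧸ P), add_mul, one_mul]

/-- the support of a nonzero flat finite module meets every fibre -/
theorem exists_prime_over [Module.Flat A N] [Nontrivial N] (p : PrimeSpectrum A) :
    ∃ P ∈ Module.support B N, PrimeSpectrum.comap (algebraMap A B) P = p := by
  haveI := faithfullyFlat (A := A) B N
  let K := p.asIdeal.ResidueField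
  haveI : Nontrivial (N ⊗[A] K) := Module.FaithfullyFlat.lTensor_nontrivial A N K
  let R' := B ⊗[A] K
  let T := R' ⊗[B] N
  let e : T ≃ₗ[B] N ⊗[A] K :=
    ((_root_.TensorProduct.comm B R' N).trans (AlgebraTensorModule.cancelBaseChange A B B N K))
  haveI : Nontrivial T := e.toEquiv.nontrivial
  obtain ⟨Q, hQ⟩ := (Module.nonempty_support_iff (R := R') (M := T)).2 inferInstance
  refine ⟨_, (DepthLib.mem_support_baseChange N Q).1 hQ, ?_⟩
  have hc : (algebraMap B R').comp (algebraMap A B) = (Algebra.TensorProduct.includeRight : K →ₐ[A] R').toRingHom.comp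
      (algebraMap A K) := by
    ext a
    exact (IsScalarTower.algebraMap_apply A B R' a).symm.trans
      ((Algebra.TensorProduct.includeRight : K →ₐ[A] R').commutes a).symm
  show PrimeSpectrum.comap (algebraMap A B) (PrimeSpectrum.comap (algebraMap B R') Q) = p
  rw [← PrimeSpectrum.comap_comp_apply, hc, PrimeSpectrum.comap_comp_apply]
  refine PrimeSpectrum.ext ?_
  haveI : Subsingleton (PrimeSpectrum K) := inferInstance
  rw [show (PrimeSpectrum.comap (Algebra.TensorProduct.includeRight : K →ₐ[A] R').toRingHom Q) =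
    (⟨⊥, Ideal.isPrime_bot⟩ : PrimeSpectrum K) from Subsingleton.elim _ _]
  exact p.asIdeal.ker_algebraMap_residueField

end Alg

section Scheme

local notation "St" => DerSch.stalkFunctor _

variable {X Y : Scheme.{u}} (f : X ⟶ Y) {E : Y.Modules} {F : X.Modules}

/-- the fibre condition at a point -/
def FibAss (F : X.Modules) (x : X) : Prop :=
  letI := (f.stalkMap x).hom.toAlgebra
  IsAssociatedPrime (maximalIdeal (X.presheaf.stalk x))
    (DepthTensModLib.Fib (Y.presheaf.stalk (f x)) (B := X.presheaf.stalk x) (F.presheaf.stalk x))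

/-- the fibre length at a point -/
noncomputable def fibLen (F : X.Modules) (x : X) : ℕ∞ :=
  letI := (f.stalkMap x).hom.toAlgebra
  Module.length (X.presheaf.stalk x)
    (DepthTensModLib.Fib (Y.presheaf.stalk (f x)) (B := X.presheaf.stalk x) (F.presheaf.stalk x))

theorem f_fiberι {s : Y} (u : f.fiber s) : f (f.fiberι s u) = s := (f.range_fiberι s).le ⟨u, rfl⟩

theorem nonempty_stalk_tensor (E : Y.Modules) (F : X.Modules) (x : X) :
    letI : Algebra (Y.presheaf.stalk (f x)) (X.presheaf.stalk x) := (f.stalkMap x).hom.toAlgebra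
    letI : Module (Y.presheaf.stalk (f x)) (F.presheaf.stalk x) := FlatMod.moduleStalkOver f F x
    haveI : IsScalarTower (Y.presheaf.stalk (f x)) (X.presheaf.stalk x) (F.presheaf.stalk x) :=
      IsScalarTower.of_algebraMap_smul fun _ _ => rfl
    Nonempty ((CohB1.tensorMod ((Scheme.Modules.pullback f).obj E) F).presheaf.stalk x ≃ₗ[X.presheaf.stalk x]
      F.presheaf.stalk x ⊗[Y.presheaf.stalk (f x)] E.presheaf.stalk (f x)) := by
  letI : Algebra (Y.presheaf.stalk (f x)) (X.presheaf.stalk x) := (f.stalkMap x).hom.toAlgebra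
  letI : Module (Y.presheaf.stalk (f x)) (F.presheaf.stalk x) := FlatMod.moduleStalkOver f F x
  haveI : IsScalarTower (Y.presheaf.stalk (f x)) (X.presheaf.stalk x) (F.presheaf.stalk x) :=
      IsScalarTower.of_algebraMap_smul fun _ _ => rfl
  let A := Y.presheaf.stalk (f x)
  let B := X.presheaf.stalk x
  let e₁ : ((Scheme.Modules.pullback f).obj E).presheaf.stalk x ≃ₗ[B] B ⊗[A] E.presheaf.stalk (f x) :=
    ((KFlatLib.stalkPullIso f x).app E).toLinearEquiv
  exact ⟨(((LinearEquiv.ofBijective (KFlatLib.stalkTensorLin _ F x)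
      (KFlatLib.stalkTensorLin_bijective _ F x)).symm).trans
    ((TensorProduct.congr e₁ (LinearEquiv.refl B _)).trans (_root_.TensorProduct.comm B _ _))).trans
      (AlgebraTensorModule.cancelBaseChange A B B (F.presheaf.stalk x) (E.presheaf.stalk (f x)))⟩

variable [IsLocallyNoetherian X] [IsLocallyNoetherian Y]
  (hE : Coh.IsCoh E) (hF : Coh.IsCoh F) (hflat : FlatMod.IsFlatOver f F)

include hE hF hflat in
theorem mem_ass_tensor_iff (x : X) :
    x ∈ AssSch.Ass (CohB1.tensorMod ((Scheme.Modules.pullback f).obj E) F) ↔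
      f x ∈ AssSch.Ass E ∧ FibAss f F x := by
  letI : Algebra (Y.presheaf.stalk (f x)) (X.presheaf.stalk x) := (f.stalkMap x).hom.toAlgebra
  letI : Module (Y.presheaf.stalk (f x)) (F.presheaf.stalk x) := FlatMod.moduleStalkOver f F x
  haveI : IsScalarTower (Y.presheaf.stalk (f x)) (X.presheaf.stalk x) (F.presheaf.stalk x) :=
      IsScalarTower.of_algebraMap_smul fun _ _ => rfl
  haveI : IsLocalHom (algebraMap (Y.presheaf.stalk (f x)) (X.presheaf.stalk x)) :=
    inferInstanceAs (IsLocalHom (f.stalkMap x).hom)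
  haveI := hF.1
  haveI := DepthLib.finite_stalk F hF.2 x
  haveI := hE.1
  haveI := DepthLib.finite_stalk E hE.2 (f x)
  haveI : Module.Flat (Y.presheaf.stalk (f x)) (F.presheaf.stalk x) := hflat x
  obtain ⟨e⟩ := nonempty_stalk_tensor f E F x
  exact (Set.ext_iff.1 (LinearEquiv.AssociatedPrimes.eq e) _).trans
    (ass_tensor_iff (F.presheaf.stalk x) (E.presheaf.stalk (f x)))

include hE hF hflat in
theorem length_stalk_tensor (x : X) (hfin : IsFiniteLength (Y.presheaf.stalk (f x)) (E.presheaf.stalk (f x))) :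
    Module.length (X.presheaf.stalk x)
        ((CohB1.tensorMod ((Scheme.Modules.pullback f).obj E) F).presheaf.stalk x) =
      Module.length (Y.presheaf.stalk (f x)) (E.presheaf.stalk (f x)) * fibLen f F x := by
  letI : Algebra (Y.presheaf.stalk (f x)) (X.presheaf.stalk x) := (f.stalkMap x).hom.toAlgebra
  letI : Module (Y.presheaf.stalk (f x)) (F.presheaf.stalk x) := FlatMod.moduleStalkOver f F x
  haveI : IsScalarTower (Y.presheaf.stalk (f x)) (X.presheaf.stalk x) (F.presheaf.stalk x) :=
      IsScalarTower.of_algebraMap_smul fun _ _ => rfl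
  haveI : Module.Flat (Y.presheaf.stalk (f x)) (F.presheaf.stalk x) := hflat x
  obtain ⟨e⟩ := nonempty_stalk_tensor f E F x
  exact e.length_eq.trans (length_tensor (F.presheaf.stalk x) (E.presheaf.stalk (f x)) hfin)

omit [IsLocallyNoetherian Y] in
theorem mem_ass_fiber_iff (F : X.Modules) (s : Y) (u : f.fiber s) :
    u ∈ AssSch.Ass ((Scheme.Modules.pullback (f.fiberι s)).obj F) ↔ FibAss f F (f.fiberι s u) := by
  let i := f.fiberι s
  letI : Algebra (X.presheaf.stalk (i u)) ((f.fiber s).presheaf.stalk u) := (i.stalkMap u).hom.toAlgebra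
  have hs : Function.Surjective (algebraMap (X.presheaf.stalk (i u)) ((f.fiber s).presheaf.stalk u)) :=
    (Groth.Agent.S9501.result f s u).1
  let T := (f.fiber s).presheaf.stalk u ⊗[X.presheaf.stalk (i u)] F.presheaf.stalk (i u)
  let e : ((Scheme.Modules.pullback i).obj F).presheaf.stalk u ≃ₗ[(f.fiber s).presheaf.stalk u] T :=
    ((KFlatLib.stalkPullIso i u).app F).toLinearEquiv
  haveI : IsNoetherianRing ((f.fiber s).presheaf.stalk u) := isNoetherianRing_of_surjective _ _ _ hs
  refine (Set.ext_iff.1 (LinearEquiv.AssociatedPrimes.eq e) _).trans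
    ((DvrLenLib.isAssociatedPrime_maximal_of_surjective hs T).trans ?_)
  refine Set.ext_iff.1 (LinearEquiv.AssociatedPrimes.eq ((DvrLenLib.tensorEquivQuot hs (F.presheaf.stalk (i u))).trans
    (Submodule.quotEquivOfEq _ _ ?_))) _
  exact congrArg (· • _) (Groth.Agent.S9501.result f s u).2

omit [IsLocallyNoetherian X] [IsLocallyNoetherian Y] in
theorem length_fiber_stalk (F : X.Modules) (s : Y) (u : f.fiber s) :
    Module.length ((f.fiber s).presheaf.stalk u)
        (((Scheme.Modules.pullback (f.fiberι s)).obj F).presheaf.stalk u) = fibLen f F (f.fiberι s u) := by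
  rw [CycSpLib.length_stalk_pullback_preimmersion]
  exact (Submodule.quotEquivOfEq _ _ (congrArg (· • _) (Groth.Agent.S9501.result f s u).2)).length_eq

include hF in
theorem nontrivial_fiber_stalk {s : Y} (u : f.fiber s) (h : Nontrivial (F.presheaf.stalk (f.fiberι s u))) :
    Nontrivial (((Scheme.Modules.pullback (f.fiberι s)).obj F).presheaf.stalk u) := by
  let x := f.fiberι s u
  letI : Algebra (Y.presheaf.stalk (f x)) (X.presheaf.stalk x) := (f.stalkMap x).hom.toAlgebra
  letI : Module (Y.presheaf.stalk (f x)) (F.presheaf.stalk x) := FlatMod.moduleStalkOver f F x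
  haveI : IsScalarTower (Y.presheaf.stalk (f x)) (X.presheaf.stalk x) (F.presheaf.stalk x) :=
      IsScalarTower.of_algebraMap_smul fun _ _ => rfl
  haveI : IsLocalHom (algebraMap (Y.presheaf.stalk (f x)) (X.presheaf.stalk x)) :=
    inferInstanceAs (IsLocalHom (f.stalkMap x).hom)
  haveI := hF.1
  haveI := DepthLib.finite_stalk F hF.2 x
  haveI := h
  have := nontrivial_fib (A := Y.presheaf.stalk (f x)) (B := X.presheaf.stalk x) (F.presheaf.stalk x)
  rw [← not_subsingleton_iff_nontrivial] at this ⊢
  intro h0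
  exact this (Module.length_eq_zero_iff.1 ((length_fiber_stalk f F s u).symm.trans (Module.length_eq_zero_iff.2 h0)))

theorem stalkPt_map (x : X) (P : PrimeSpectrum (X.presheaf.stalk x)) :
    f (EquidimLib.stalkPt x P) = EquidimLib.stalkPt (f x) (PrimeSpectrum.comap (f.stalkMap x).hom P) :=
  congr($(Scheme.SpecMap_stalkMap_fromSpecStalk (f := f) (x := x)).base P).symm

include hF in
/-- an associated point of the fibre above a point of the support -/
theorem exists_fibAss (x : X) (hx : Nontrivial (F.presheaf.stalk x)) :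
    ∃ z, z ⤳ x ∧ f z = f x ∧ FibAss f F z ∧ Nontrivial (F.presheaf.stalk z) := by
  obtain ⟨u, hu⟩ : ∃ u : f.fiber (f x), f.fiberι (f x) u = x := (f.range_fiberι (f x)).ge rfl
  haveI := hF.1
  haveI : Coh.IsQCoh ((Scheme.Modules.pullback (f.fiberι (f x))).obj F) := KFlatLib.isQCoh_pullback _ _
  have hn := nontrivial_fiber_stalk f hF u (by rw [hu]; exact hx)
  obtain ⟨v, hv, hvw⟩ := AssPointLib.exists_weak_of_mem_support
    (M := (Scheme.Modules.pullback (f.fiberι (f x))).obj F) (x := u) (not_subsingleton_iff_nontrivial.2 hn)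
  have hvx : f.fiberι (f x) v ⤳ x := by
    have := hv.map (f.fiberι (f x)).continuous
    generalize f.fiberι (f x) v = w at this ⊢
    rwa [hu] at this
  refine ⟨f.fiberι (f x) v, hvx, f_fiberι f v,
    (mem_ass_fiber_iff f F (f x) v).1 ((AssPointLib.assPoint_iff_weak _ _).2 hvw), ?_⟩
  by_contra hc
  haveI := not_nontrivial_iff_subsingleton.1 hc
  letI : Algebra (X.presheaf.stalk (f.fiberι (f x) v)) ((f.fiber (f x)).presheaf.stalk v) :=
    ((f.fiberι (f x)).stalkMap v).hom.toAlgebra
  haveI : Subsingleton ((f.fiber (f x)).presheaf.stalk v ⊗[X.presheaf.stalk (f.fiberι (f x) v)]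
      F.presheaf.stalk (f.fiberι (f x) v)) := subsingleton_of_forall_eq 0 fun z => by
    induction z using TensorProduct.induction_on with
    | zero => rfl
    | tmul a b => rw [Subsingleton.elim b 0, tmul_zero]
    | add a b ha hb => rw [ha, hb, add_zero]
  let e : ((Scheme.Modules.pullback (f.fiberι (f x))).obj F).presheaf.stalk v ≃ₗ[(f.fiber (f x)).presheaf.stalk v]
      (f.fiber (f x)).presheaf.stalk v ⊗[X.presheaf.stalk (f.fiberι (f x) v)] F.presheaf.stalk (f.fiberι (f x) v) :=
    ((KFlatLib.stalkPullIso (f.fiberι (f x)) v).app F).toLinearEquiv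
  exact (AssPointLib.weak_iff_mem_support hvw) e.toEquiv.subsingleton

include hF hflat in
/-- generizations lift along the support of a flat module -/
theorem exists_generization (x : X) (hx : Nontrivial (F.presheaf.stalk x)) {y : Y} (hy : y ⤳ f x) :
    ∃ z, z ⤳ x ∧ f z = y ∧ Nontrivial (F.presheaf.stalk z) := by
  letI : Algebra (Y.presheaf.stalk (f x)) (X.presheaf.stalk x) := (f.stalkMap x).hom.toAlgebra
  letI : Module (Y.presheaf.stalk (f x)) (F.presheaf.stalk x) := FlatMod.moduleStalkOver f F x
  haveI : IsScalarTower (Y.presheaf.stalk (f x)) (X.presheaf.stalk x) (F.presheaf.stalk x) :=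
      IsScalarTower.of_algebraMap_smul fun _ _ => rfl
  haveI : IsLocalHom (algebraMap (Y.presheaf.stalk (f x)) (X.presheaf.stalk x)) :=
    inferInstanceAs (IsLocalHom (f.stalkMap x).hom)
  haveI := hF.1
  haveI := DepthLib.finite_stalk F hF.2 x
  haveI : Module.Flat (Y.presheaf.stalk (f x)) (F.presheaf.stalk x) := hflat x
  haveI := hx
  haveI := hF.1
  obtain ⟨p, hp⟩ := EquidimLib.exists_stalkPt hy
  obtain ⟨P, hP, hPp⟩ := exists_prime_over (A := Y.presheaf.stalk (f x)) (B := X.presheaf.stalk x)
    (F.presheaf.stalk x) p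
  refine ⟨EquidimLib.stalkPt x P, EquidimLib.stalkPt_specializes x P, ?_,
    not_subsingleton_iff_nontrivial.1 ((DvrLenLib.mem_support_stalk_iff F hF.2 x P).1 hP)⟩
  rw [stalkPt_map]
  exact (congrArg _ hPp).trans hp

include hE hF hflat in
theorem noEmbedded_iff :
    AssSch.NoEmbedded (CohB1.tensorMod ((Scheme.Modules.pullback f).obj E) F) ↔
      ∀ y ∈ AssSch.Ass E ∩ f.base '' CohB1.support F,
        (∀ y' ∈ AssSch.Ass E, y' ⤳ y → y' = y) ∧
          AssSch.NoEmbedded ((Scheme.Modules.pullback (f.fiberι y)).obj F) := by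
  constructor
  · rintro h y ⟨hy, x, hx, rfl⟩
    have mem : ∀ u : f.fiber (f x), u ∈ AssSch.Ass ((Scheme.Modules.pullback (f.fiberι (f x))).obj F) →
        f.fiberι (f x) u ∈ AssSch.Ass (CohB1.tensorMod ((Scheme.Modules.pullback f).obj E) F) := fun u hu =>
      (mem_ass_tensor_iff f hE hF hflat _).2 ⟨(f_fiberι f u).symm ▸ hy, (mem_ass_fiber_iff f F _ u).1 hu⟩
    refine ⟨fun y' hy' hsp => ?_, fun u hu v hv hvu => (f.fiberι (f x)).isEmbedding.injective
      (h _ (mem u hu) _ (mem v hv) (hvu.map (f.fiberι (f x)).continuous))⟩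
    obtain ⟨a, -, hfa, ha, han⟩ := exists_fibAss f hF x (not_subsingleton_iff_nontrivial.1 hx)
    have haT : a ∈ AssSch.Ass _ := (mem_ass_tensor_iff f hE hF hflat a).2 ⟨hfa.symm ▸ hy, ha⟩
    obtain ⟨z, hza, hfz, hzn⟩ := exists_generization f hF hflat a han (hfa.symm ▸ hsp : y' ⤳ f a)
    obtain ⟨b, hbz, hfb, hb, -⟩ := exists_fibAss f hF z hzn
    have hbT : b ∈ AssSch.Ass _ :=
      (mem_ass_tensor_iff f hE hF hflat b).2 ⟨by rw [hfb, hfz]; exact hy', hb⟩
    have := h a haT b hbT (hbz.trans hza)
    exact (hfz.symm.trans hfb.symm).trans ((congrArg f this.symm).trans hfa)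
  · intro h a ha b hb hba
    obtain ⟨ha1, ha2⟩ := (mem_ass_tensor_iff f hE hF hflat a).1 ha
    obtain ⟨hb1, hb2⟩ := (mem_ass_tensor_iff f hE hF hflat b).1 hb
    have hsupp : a ∈ CohB1.support F := fun hs => by
      haveI := hs
      exact (associatedPrimes.eq_empty_of_subsingleton (R := X.presheaf.stalk a) (M := _)).subset ha2
    obtain ⟨hmin, hne⟩ := h (f a) ⟨ha1, a, hsupp, rfl⟩
    have hfab : f b = f a := hmin _ hb1 (hba.map f.continuous)
    obtain ⟨u, rfl⟩ : ∃ u : f.fiber (f a), f.fiberι (f a) u = b := (f.range_fiberι (f a)).ge hfab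
    obtain ⟨v, hv⟩ : ∃ v : f.fiber (f a), f.fiberι (f a) v = a := (f.range_fiberι (f a)).ge rfl
    have := hne v ((mem_ass_fiber_iff f F _ v).2 (by rw [hv]; exact ha2)) u ((mem_ass_fiber_iff f F _ u).2 hb2)
      ((f.fiberι (f a)).isEmbedding.isInducing.specializes_iff.1 (by rw [hv]; exact hba))
    rw [← this, hv]

end Scheme

end AssFlatLib
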